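import Mathlib
import Cfsg.Agent.H122.On.FieldStab
import Cfsg.Agent.H720.RowsSix
import Cfsg.Agent.H967.FaTw
import Cfsg.Agent.H545.LT.RowExc
import Cfsg.Agent.S1070
import Cfsg.Agent.H696.GmnUntw

/-!
# S3855, the row `²E₆(q)`, primes `p ≥ 7` (helper122)

* `real` : a real element of order `s`, or `-q` has order `5` or `9` modulo `s`;
* `ev` : `p ≥ 7` prime to `q`, `-q` not of order `5`, `9` modulo `p`: `Ev p`;
* `te6_b`.
-/

set_option autoImplicit false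
set_option linter.unusedSectionVars false

namespace Cfsg.Agent.H122.On.TwESix

open CoxeterSystem Cfsg Cfsg.Lie Cfsg.Lie.ChevalleyDatum
open Cfsg.Agent.ChevalleyStructure Cfsg.Agent.ChevalleyStructure.Elts Cfsg.Agent.ChevalleyStructure.CoxeterGeom
  Cfsg.Agent.ChevalleyStructure.CoxeterGeomTypes Cfsg.Agent.ChevalleyStructure.NPerm
open Cfsg.Agent.Tits.Roots Cfsg.Agent.Tits.Core Cfsg.Agent.Nodes Cfsg.Agent.Nodes.Reps Cfsg.Agent.Nodes.BNOf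
  Cfsg.Agent.Nodes.RGDChev Cfsg.Agent.Nodes.Bruhat Cfsg.Agent.Nodes.SubComb Cfsg.Agent.Nodes.Coroot
open Cfsg.Agent.KFacts.RgdField Cfsg.Agent.KFacts.RgdChevCoord Cfsg.Agent.BpExc.TorCent Cfsg.Agent.BpExc.TorChev
open Cfsg.Agent.GpExc.Field Cfsg.Agent.BpExc.Tow Cfsg.Agent.BpExc.TowChev Cfsg.Agent.BpExc.Fr
  Cfsg.Agent.BpExc.LangFr Cfsg.Agent.LangThm Cfsg.Agent.BpExc Cfsg.Agent.H129.TorusChar Cfsg.Agent.H129.TorusCent
  Cfsg.Agent.H129.TorusTw Cfsg.Agent.H129.TorusMain Cfsg.Agent.H129.TorusUntw Cfsg.Agent.H720.TorusReal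
  Cfsg.Agent.H722.RealP Cfsg.Agent.H720.RealTw Cfsg.Agent.H130.WeylCk Cfsg.Agent.H130.WeylTab
  Cfsg.Agent.H720.RowsNeg Cfsg.Agent.H720.Functional Cfsg.Agent.H720.RowSix Cfsg.Agent.H720 Cfsg.Agent.H720.RowsSix

universe u

/-- **`²E₆(q)`, primes not dividing `3 q`** (the precise form of `H720.RowsSix.TwE6`). -/
theorem TwE6' {K : Type u} [Field K] [Fintype K] {q : ℕ} (hq : IsPrimePow q) (hK : Fintype.card K = q ^ 2) {s : ℕ}
    (hs : s.Prime) (hs3 : s ≠ 3) (hsq : ¬ s ∣ q) (hsG : s ∣ Nat.card ↥(twistedE6 K q)) :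
    HasReal s ↥(twistedE6 K q) ∨ ((orderOf (-(q : ZMod s)) = 5 ∨ orderOf (-(q : ZMod s)) = 9) ∧
      ∃ x : ↥(twistedE6 K q), orderOf x = s ^ (Nat.card ↥(twistedE6 K q)).factorization s) := by
  have hcard := Cfsg.Agent.S1066.result hq hK
  obtain ⟨p, n, hpF, hpc, hpk, hn, rfl, hk, hA⟩ := RowTriD4.exists_closure_pow two_ne_zero hq hK
  have cs := CoxeterMatrix.E₆.toCoxeterSystem
  have hp := TwFr.hp6
  have : Finite CoxeterMatrix.E₆.Group := finite_W hp cs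
  have hsp : s ≠ p := fun h => hsq (by rw [h]; exact dvd_pow_self p hn.ne')
  have hq1 : 1 < p ^ n := Nat.one_lt_pow hn.ne' hpF.out.one_lt
  -- `-g` is in the Weyl group
  have hw0 : ∀ x, rep cs hp.isCartan (cs.wordProd [1, 2, 4, 0, 3, 5] ^ 6) x = -(TwFr.permE TwFr.rho6 x) := by
    intro x
    have h1 : ∀ x, rep cs hp.isCartan (cs.wordProd [1, 2, 4, 0, 3, 5] ^ 6) x =
        (-(TwFr.permE TwFr.rho6).toAddMonoidHom.toIntLinearMap) x := by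
      refine eq_of_sr fun i => ?_
      rw [rep_word lists_E6 cs hp.isCartan _ _ i, ck_w0, toFn_smul, toFn_bas, neg_smul, one_smul]
      show -(Pi.single (TwFr.rho6 i) 1 : Fin 6 → ℤ) = -(fun j => (sr i : Fin 6 → ℤ) (TwFr.rho6.symm j))
      congr 1
      funext j
      revert i j
      decide
    exact h1 x
  set w₀ := cs.wordProd [1, 2, 4, 0, 3, 5] ^ 6 with hw₀def
  have hth : ∀ (w : CoxeterMatrix.E₆.Group) x, theta hp cs w (TwFr.permE TwFr.rho6) x =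
      (-1 : ℤ) • rep cs hp.isCartan (w * w₀) x := by
    intro w x
    rw [theta_apply, rep_mul_apply, hw0, map_neg, neg_smul, one_smul, neg_neg]
  have hgcd : (Nat.gcd 3 (p ^ n + 1)) ∣ 3 := Nat.gcd_dvd_left _ _
  have hcast : (((-1 * ((p ^ n : ℕ) : ℤ) : ℤ)) : ZMod s) = -((p ^ n : ℕ) : ZMod s) := by
    push_cast
    ring
  rw [← hcast]
  refine main' hp cs hk hn (TwFr.isFrob_sig6 p n) (TwFr.fr_sig6 hk p hp cs n) (nsys_of_locFin hp cs hk p)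
    (Cfsg.Agent.BpExc.FamTw.Six.em_injective (algebraMap K (AlgebraicClosure K)))
    (TwFr.em6_fix _ p hn rfl hK) (m := Nat.gcd 3 (p ^ n + 1)) ?_
    (ε := -1) (by norm_num) (fun w => ⟨w * w₀, hth w⟩) (fun v => ⟨v * w₀⁻¹, fun x => by
      rw [hth, inv_mul_cancel_right]⟩)
    (fun y hy => TwFr.desc6 _ p hk hn rfl hK hy) hA hs hsp ?_ hsG ?_
  · exact Odd.of_dvd_nat (by decide) hgcd
  · exact Nat.Coprime.coprime_dvd_left hgcd ((Nat.coprime_primes Nat.prime_three hs).2 (Ne.symm hs3))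
  · rw [prod_degs]
    set q := p ^ n with hqdef
    have h1 : ∀ i : ℕ, ((q : ℕ) : ℤ) ^ i - 1 = ((q ^ i - 1 : ℕ) : ℤ) := by
      intro i
      rw [Nat.cast_sub (Nat.one_le_pow _ _ (by omega))]
      push_cast
      ring
    have h2 : ((-1 * (q : ℤ)) ^ 2 - 1) * ((-1 * (q : ℤ)) ^ 5 - 1) * ((-1 * (q : ℤ)) ^ 6 - 1) *
        ((-1 * (q : ℤ)) ^ 8 - 1) * ((-1 * (q : ℤ)) ^ 9 - 1) * ((-1 * (q : ℤ)) ^ 12 - 1) =
        ((q : ℤ) ^ 2 - 1) * ((q : ℤ) ^ 5 + 1) * ((q : ℤ) ^ 6 - 1) * ((q : ℤ) ^ 8 - 1) * ((q : ℤ) ^ 9 + 1) *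
        ((q : ℤ) ^ 12 - 1) := by ring
    rw [h2, h1, h1, h1, h1]
    have h3 : Nat.card ↥(twistedE6 K q) ∣ q ^ 36 * ((q ^ 2 - 1) * (q ^ 5 + 1) * (q ^ 6 - 1) *
        (q ^ 8 - 1) * (q ^ 9 + 1) * (q ^ 12 - 1)) := by
      refine (Dvd.intro_left _ hcard).trans (dvd_of_eq ?_)
      ring
    exact_mod_cast h3

/-- the order of `²E₆(q)` modulo `p` depends on `q` modulo `p` -/
theorem dvd_card {K₀ K : Type*} [Field K₀] [Fintype K₀] [Field K] [Fintype K] {q₀ q p : ℕ} (hp : p.Prime)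
    (hp3 : p ≠ 3) (hq₀ : IsPrimePow q₀) (hq : IsPrimePow q) (hK₀ : Fintype.card K₀ = q₀ ^ 2)
    (hK : Fintype.card K = q ^ 2) (hqq : (q : ZMod p) = (q₀ : ZMod p)) (hd : p ∣ Nat.card ↥(twistedE6 K q)) :
    p ∣ Nat.card ↥(twistedE6 K₀ q₀) := by
  have h1 := Cfsg.Agent.S1066.result hq hK
  have h2 := Cfsg.Agent.S1066.result hq₀ hK₀
  have key : ∀ x : ℕ, 1 ≤ x → ((x ^ 36 * (x ^ 2 - 1) * (x ^ 5 + 1) * (x ^ 6 - 1) * (x ^ 8 - 1) * (x ^ 9 + 1) *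
      (x ^ 12 - 1) : ℕ) : ZMod p) = (x : ZMod p) ^ 36 * ((x : ZMod p) ^ 2 - 1) * ((x : ZMod p) ^ 5 + 1) *
      ((x : ZMod p) ^ 6 - 1) * ((x : ZMod p) ^ 8 - 1) * ((x : ZMod p) ^ 9 + 1) * ((x : ZMod p) ^ 12 - 1) := by
    intro x hx
    have h3 : ∀ i : ℕ, ((x ^ i - 1 : ℕ) : ZMod p) = (x : ZMod p) ^ i - 1 := by
      intro i
      rw [Nat.cast_sub (Nat.one_le_pow _ _ hx)]
      push_cast
      ring
    push_cast [h3]
    ring
  have h3 : ((Nat.gcd 3 (q + 1) * Nat.card ↥(twistedE6 K q) : ℕ) : ZMod p) = 0 :=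
    (ZMod.natCast_eq_zero_iff _ _).2 (hd.mul_left _)
  have h4 : ((Nat.gcd 3 (q₀ + 1) * Nat.card ↥(twistedE6 K₀ q₀) : ℕ) : ZMod p) = 0 := by
    rw [h2, key q₀ hq₀.pos, ← hqq, ← key q hq.pos, ← h1]
    exact h3
  rw [ZMod.natCast_eq_zero_iff] at h4
  rcases hp.dvd_mul.1 h4 with h5 | h5
  · exact absurd ((Nat.prime_dvd_prime_iff_eq hp Nat.prime_three).1 (h5.trans (Nat.gcd_dvd_left _ _))) hp3
  · exact h5

open Cfsg.Agent.H467.OddNorm Cfsg.Agent.H967.CopMat Cfsg.Agent.H967.CopTw Cfsg.Agent.H967.CopFix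
  Cfsg.Agent.H967.FaTw Cfsg.Agent.H545.LT

/-- **`²E₆(q)`, `p ≥ 7`.** -/
theorem ev {K : Type} [Field K] [Fintype K] {q p : ℕ} [hpp : Fact p.Prime] (hp7 : 7 ≤ p) (hq : IsPrimePow q)
    (hK : Fintype.card K = q ^ 2) (hF : (p : K) ≠ 0) (h5 : orderOf (-(q : ZMod p)) ≠ 5)
    (h9 : orderOf (-(q : ZMod p)) ≠ 9) (hd : p ∣ Nat.card ↥(twistedE6 K q)) : Ev p ↥(twistedE6 K q) := by
  obtain ⟨r, a, hr, ha, hqa⟩ := (isPrimePow_nat_iff _).1 hq
  have hr' : r.Prime := hr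
  have hrf : Fact r.Prime := ⟨hr'⟩
  have hK' : Fintype.card K = r ^ (2 * a) := by rw [hK, ← hqa, ← pow_mul, mul_comm]
  have hrc : CharP K r := Cfsg.Agent.H967.CopSz.charP_of_card hr' hK'
  subst hqa
  have hpr : p ≠ r := by
    rintro rfl
    exact hF (CharP.cast_eq_zero K p)
  have hpq : ¬ p ∣ r ^ a := fun h => hpr ((Nat.prime_dvd_prime_iff_eq hpp.out hr').1 (hpp.out.dvd_of_dvd_pow h))
  have hp3 : p ≠ 3 := by omega
  have hZ : Subgroup.center ↥(twistedE6 K (r ^ a)) = ⊥ :=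
    Cfsg.Agent.H696.GmnUntw.center_eq_bot_of_simple (S1070.result hq hK)
  refine ev_of_stab (stab_e6 (r ^ a)) (by omega) hZ (fun P => ab_2e6 (r := r) (r ^ a) p hpp.out (by
      rintro (h | h | h | h)
      · omega
      · omega
      · omega
      · exact hpr h) P) (r := r) (f := 2 * a) (c := Nat.gcd 3 (r ^ a + 1)) (by omega) hK' (not_inner_e6 hq hK)
    ?_ ?_ ?_
  · rw [S2130.result r a hK' ha]
    exact dvd_of_eq (by ring)
  · intro h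
    exact hp3 ((Nat.prime_dvd_prime_iff_eq hpp.out Nat.prime_three).1 (h.trans (Nat.gcd_dvd_left _ _)))
  · intro σ k hσ
    have : Fintype ↥(Fx σ) := Fintype.ofFinite _
    have hno : Odd (orderOf σ) := by rw [hσ]; exact (hpp.out.odd_of_ne_two (by omega)).pow
    have hE : r ^ (a * 2) = Nat.card ↥(Fx σ) ^ orderOf σ := by
      rw [← card_Fx, Nat.card_eq_fintype_card, hK', mul_comm]
    obtain ⟨a₀, j, h0, h1, h2, h3⟩ := exists_exp_two hr' (by omega) hno hE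
    have h2' : Nat.card ↥(Fx σ) = r ^ (2 * a₀) := by rw [h2, ← pow_mul, mul_comm]
    refine ⟨twistedE6 ↥(Fx σ) (r ^ a), words_e6 (Fx σ).subtype _, ?_⟩
    rw [twistedE6_congr (E := ↥(Fx σ)) (e := r ^ a) (pow_eq h2' h3)]
    have hq₀ : IsPrimePow (r ^ a₀) := hr'.isPrimePow.pow h0
    have hK₀ : Fintype.card ↥(Fx σ) = (r ^ a₀) ^ 2 := by rw [← Nat.card_eq_fintype_card, h2]
    have hqq : ((r ^ a : ℕ) : ZMod p) = ((r ^ a₀ : ℕ) : ZMod p) := by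
      rw [h1, hσ, pow_mul]
      exact cast_pow_pow p _ k
    have hpq₀ : ¬ p ∣ r ^ a₀ := fun h =>
      hpr ((Nat.prime_dvd_prime_iff_eq hpp.out hr').1 (hpp.out.dvd_of_dvd_pow h))
    rcases TwE6' hq₀ hK₀ hpp.out hp3 hpq₀ (dvd_card hpp.out hp3 hq₀ hq hK₀ hK hqq hd) with h | ⟨h, -⟩
    · exact h
    · rw [← hqq] at h
      rcases h with h | h
      · exact absurd h h5
      · exact absurd h h9

/-- **`²E₆(q)`, `p ∣ q² - q + 1`** (task 1025). -/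
theorem te6_b {K : Type} [Field K] [Fintype K] {q p : ℕ} [hpp : Fact p.Prime] (hp2 : p ≠ 2) (hq : IsPrimePow q)
    (hK : Fintype.card K = q ^ 2) (he : orderOf (-(q : ZMod p)) = 3) : Ev p ↥(Lie.twistedE6 K q) := by
  have hx3 : (-(q : ZMod p)) ^ 3 = 1 := by rw [← he, pow_orderOf_eq_one]
  have hx0 : (-(q : ZMod p)) ≠ 0 := by
    intro h
    rw [h] at hx3
    norm_num at hx3
  have hq0 : (q : ZMod p) ≠ 0 := fun h => hx0 (by rw [h, neg_zero])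
  have h31 : 3 ∣ p - 1 := by
    rw [← he]
    exact orderOf_dvd_of_pow_eq_one (ZMod.pow_card_sub_one_eq_one hx0)
  have hp7 : 7 ≤ p := by
    have h2 := hpp.out.two_le
    have h3 := (hpp.out.eq_two_or_odd').resolve_left hp2
    obtain ⟨j, hj⟩ := h3
    omega
  have hpq : ¬ p ∣ q := fun h => hq0 ((ZMod.natCast_eq_zero_iff _ _).2 h)
  have hF : (p : K) ≠ 0 := by
    intro h
    obtain ⟨r, a, hr, ha, hqa⟩ := (isPrimePow_nat_iff _).1 hq
    have hr' : r.Prime := hr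
    have hK' : Fintype.card K = r ^ (2 * a) := by rw [hK, ← hqa, ← pow_mul, mul_comm]
    have hrf : Fact r.Prime := ⟨hr'⟩
    have hrc : CharP K r := Cfsg.Agent.H967.CopSz.charP_of_card hr' hK'
    have h1 : r ∣ p := (CharP.cast_eq_zero_iff K r p).1 h
    have h2 := (Nat.prime_dvd_prime_iff_eq hr' hpp.out).1 h1
    apply hpq
    rw [← h2, ← hqa]
    exact dvd_pow_self r ha.ne'
  refine ev hp7 hq hK hF (by rw [he]; norm_num) (by rw [he]; norm_num) ?_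
  have h1 := Cfsg.Agent.S1066.result hq hK
  have h6 : p ∣ q ^ 6 - 1 := by
    rw [← ZMod.natCast_eq_zero_iff, Nat.cast_sub (Nat.one_le_pow _ _ hq.pos)]
    push_cast
    have h2 : (q : ZMod p) ^ 6 = 1 := by
      have h3 : ((-(q : ZMod p)) ^ 3) ^ 2 = 1 := by rw [hx3, one_pow]
      rw [← h3]
      ring
    rw [h2, sub_self]
  have h2 : p ∣ Nat.gcd 3 (q + 1) * Nat.card ↥(twistedE6 K q) := by
    rw [h1]
    exact (((h6.mul_left _).mul_right _).mul_right _).mul_right _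
  rcases hpp.out.dvd_mul.1 h2 with h | h
  · have h3 := (Nat.prime_dvd_prime_iff_eq hpp.out Nat.prime_three).1 (h.trans (Nat.gcd_dvd_left _ _))
    omega
  · exact h

end Cfsg.Agent.H122.On.TwESix
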